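/-
Isometry groups of alternating forms, stabiliser of a non-degenerate subspace.

* `isoGrp B`, `isoGrpCongr` : isometries and transport along an isometry
* `spIso` : `Matrix.symplecticGroup ≃* isoGrp (sympB m F)`
* `exists_sympEquiv`, `nonempty_isoGrp_equiv` : every non-degenerate alternating form of rank `2m`
* `stabSub`, `stabProdEquiv` : stabiliser of an orthogonal summand
-/
import Cfsg.Agent.Lib.GLOrder.Symplectic

set_option autoImplicit false
set_option linter.unusedSectionVars false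
set_option linter.style.haveILetI false

namespace Cfsg.Agent.SympGeom

open Matrix Module Cfsg.Agent.GLOrder

universe u v

section iso

variable {F : Type u} [Field F] {V V' : Type*} [AddCommGroup V] [Module F V] [AddCommGroup V'] [Module F V']

/-- The isometries of a bilinear form. -/
def isoGrp (B : LinearMap.BilinForm F V) : Subgroup (V ≃ₗ[F] V) where
  carrier := {g | ∀ u v, B (g u) (g v) = B u v}
  one_mem' := fun _ _ => rfl
  mul_mem' {a b} ha hb := fun u v => (ha (b u) (b v)).trans (hb u v)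
  inv_mem' {a} ha := fun u v => by
    have h := ha (a⁻¹ u) (a⁻¹ v)
    rw [← LinearEquiv.mul_apply, ← LinearEquiv.mul_apply, mul_inv_cancel] at h
    exact h.symm

theorem mem_isoGrp {B : LinearMap.BilinForm F V} {g : V ≃ₗ[F] V} :
    g ∈ isoGrp B ↔ ∀ u v, B (g u) (g v) = B u v := Iff.rfl

/-- Transport along an isometry. -/
def isoGrpCongr {B : LinearMap.BilinForm F V} {B' : LinearMap.BilinForm F V'} (Φ : V ≃ₗ[F] V')
    (h : ∀ u v, B' (Φ u) (Φ v) = B u v) : isoGrp B ≃* isoGrp B' where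
  toFun g := ⟨Φ.symm.trans ((g : V ≃ₗ[F] V).trans Φ), fun u v => by
    simp only [LinearEquiv.trans_apply, h, g.2 (Φ.symm u) (Φ.symm v)]
    rw [← h, LinearEquiv.apply_symm_apply, LinearEquiv.apply_symm_apply]⟩
  invFun g := ⟨Φ.trans ((g : V' ≃ₗ[F] V').trans Φ.symm), fun u v => by
    rw [← h]
    simp only [LinearEquiv.trans_apply, LinearEquiv.apply_symm_apply, g.2 (Φ u) (Φ v), h]⟩
  left_inv g := Subtype.ext (LinearEquiv.ext fun x => by simp)
  right_inv g := Subtype.ext (LinearEquiv.ext fun x => by simp)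
  map_mul' g g' := Subtype.ext (LinearEquiv.ext fun x => by simp)

end iso

section sp

variable {F : Type u} [Field F] {m : ℕ}

/-- A symplectic matrix as a linear automorphism. -/
noncomputable def spLin (g : Matrix.symplecticGroup (Fin m) F) :
    (Fin m ⊕ Fin m → F) ≃ₗ[F] Fin m ⊕ Fin m → F :=
  { g.1.mulVecLin with
    invFun := fun v => (g⁻¹).1 *ᵥ v
    left_inv := fun v => by
      show (g⁻¹).1 *ᵥ (g.1 *ᵥ v) = v
      rw [Matrix.mulVec_mulVec, ← Submonoid.coe_mul, inv_mul_cancel, Submonoid.coe_one,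
        Matrix.one_mulVec]
    right_inv := fun v => by
      show g.1 *ᵥ ((g⁻¹).1 *ᵥ v) = v
      rw [Matrix.mulVec_mulVec, ← Submonoid.coe_mul, mul_inv_cancel, Submonoid.coe_one,
        Matrix.one_mulVec] }

theorem spLin_apply (g : Matrix.symplecticGroup (Fin m) F) (v : Fin m ⊕ Fin m → F) :
    spLin g v = g.1 *ᵥ v := rfl

/-- The symplectic group as the isometry group of the standard form. -/
noncomputable def spIso (m : ℕ) (F : Type u) [Field F] :
    Matrix.symplecticGroup (Fin m) F ≃* isoGrp (sympB m F) where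
  toFun g := ⟨spLin g, fun u v => sympB_mulVec g u v⟩
  invFun f := ⟨LinearMap.toMatrix' (f : (Fin m ⊕ Fin m → F) ≃ₗ[F] Fin m ⊕ Fin m → F).toLinearMap,
    (mem_symplecticGroup_iff_preserves _).2 fun u v => by
      rw [LinearMap.toMatrix'_mulVec, LinearMap.toMatrix'_mulVec]
      exact f.2 u v⟩
  left_inv g := Subtype.ext (LinearMap.toMatrix'_toLin' g.1)
  right_inv f := Subtype.ext (LinearEquiv.ext fun v => by
    rw [spLin_apply]
    exact LinearMap.toMatrix'_mulVec _ v)
  map_mul' g h := Subtype.ext (LinearEquiv.ext fun v => by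
    show (g * h).1 *ᵥ v = g.1 *ᵥ (h.1 *ᵥ v)
    rw [Submonoid.coe_mul, Matrix.mulVec_mulVec])

variable {V : Type v} [AddCommGroup V] [Module F V] [FiniteDimensional F V]

/-- Symplectic coordinates. -/
theorem exists_sympEquiv (B : LinearMap.BilinForm F V) (halt : ∀ x, B x x = 0)
    (hnd : ∀ x, (∀ y, B x y = 0) → x = 0) (hr : finrank F V = 2 * m) :
    ∃ Φ : (Fin m ⊕ Fin m → F) ≃ₗ[F] V, ∀ u v, B (Φ u) (Φ v) = sympB m F u v := by
  classical
  obtain ⟨⟨⟨e, f⟩, h1, h2, h3⟩⟩ := nonempty_frame m B halt hnd hr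
  simp only at h1 h2 h3
  let L : (Fin m ⊕ Fin m → F) →ₗ[F] V := Fintype.linearCombination F (Sum.elim e f)
  have hB : ∀ u v, B (L u) (L v) = sympB m F u v := by
    intro u v
    simp only [L, Fintype.linearCombination_apply, Fintype.sum_sum_type, Sum.elim_inl, Sum.elim_inr,
      map_add, map_sum, map_smul, LinearMap.add_apply, LinearMap.sum_apply, LinearMap.smul_apply,
      smul_eq_mul, h1, h2, h3, alt_swap halt (e _) (f _), sympB_apply, mul_zero, Finset.sum_const_zero,
      mul_ite, mul_one, mul_neg, apply_ite (fun x : F => -x), neg_zero, Finset.sum_ite_eq,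
      Finset.sum_ite_eq', Finset.mem_univ, if_true, add_zero, zero_add]
    rw [← Finset.sum_add_distrib]
    refine Finset.sum_congr rfl fun i _ => ?_
    ring
  have hinj : Function.Injective L := by
    refine (injective_iff_map_eq_zero L).2 fun u hu => sympB_nondeg u fun v => ?_
    rw [← hB, hu, map_zero, LinearMap.zero_apply]
  refine ⟨LinearEquiv.ofBijective L ⟨hinj, ?_⟩, hB⟩
  exact (LinearMap.injective_iff_surjective_of_finrank_eq_finrank
    (by rw [finrank_sympSpace, hr])).1 hinj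

/-- The isometry group of a non-degenerate alternating form of rank `2m`. -/
theorem nonempty_isoGrp_equiv (B : LinearMap.BilinForm F V) (halt : ∀ x, B x x = 0)
    (hnd : ∀ x, (∀ y, B x y = 0) → x = 0) (hr : finrank F V = 2 * m) :
    Nonempty (isoGrp B ≃* Matrix.symplecticGroup (Fin m) F) := by
  obtain ⟨Φ, hΦ⟩ := exists_sympEquiv B halt hnd hr
  exact ⟨(isoGrpCongr Φ hΦ).symm.trans (spIso m F).symm⟩

end sp

section stab

variable {F : Type u} [Field F] {V : Type v} [AddCommGroup V] [Module F V]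
  {B : LinearMap.BilinForm F V}

/-- The isometries mapping `W` onto itself. -/
def stabSub (B : LinearMap.BilinForm F V) (W : Submodule F V) : Subgroup (isoGrp B) where
  carrier := {g | ∀ v, v ∈ W ↔ (g : V ≃ₗ[F] V) v ∈ W}
  one_mem' := fun _ => Iff.rfl
  mul_mem' {a b} ha hb := fun v => (hb v).trans (ha _)
  inv_mem' {a} ha := fun v => by
    refine ((ha _).trans ?_).symm
    show ((a * a⁻¹ : isoGrp B) : V ≃ₗ[F] V) v ∈ W ↔ _
    rw [mul_inv_cancel]
    rfl

theorem stab_mem_perp (W P : Submodule F V) (horth : ∀ w ∈ W, ∀ p ∈ P, B w p = 0)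
    (hP : ∀ v, (∀ w ∈ W, B w v = 0) → v ∈ P) (g : stabSub B W) (p : V) (hp : p ∈ P) :
    ((g : isoGrp B) : V ≃ₗ[F] V) p ∈ P := by
  refine hP _ fun w hw => ?_
  have hw' := ((g⁻¹).2 w).1 hw
  rw [← g.1.1.apply_symm_apply w, g.1.2]
  exact horth _ hw' p hp

/-- Restriction of a stabilising isometry. -/
def restrictW (W : Submodule F V) (g : stabSub B W) : isoGrp (resForm B W) :=
  ⟨LinearEquiv.ofSubmodules ((g : isoGrp B) : V ≃ₗ[F] V) W W (by
    ext v
    simp only [Submodule.mem_map, LinearEquiv.coe_coe]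
    constructor
    · rintro ⟨w, hw, rfl⟩
      exact (g.2 w).1 hw
    · intro hv
      exact ⟨_, ((g⁻¹).2 v).1 hv, g.1.1.apply_symm_apply v⟩),
    fun u v => g.1.2 (u : V) (v : V)⟩

theorem restrictW_apply (W : Submodule F V) (g : stabSub B W) (x : W) :
    (((restrictW W g : isoGrp (resForm B W)) : W ≃ₗ[F] W) x : V) = ((g : isoGrp B) : V ≃ₗ[F] V) x :=
  rfl

/-- An isometry assembled from isometries of two summands. -/
noncomputable def combine {W P : Submodule F V} (hc : IsCompl W P) (a : W ≃ₗ[F] W) (b : P ≃ₗ[F] P) :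
    V ≃ₗ[F] V :=
  (Submodule.prodEquivOfIsCompl W P hc).symm.trans
    ((a.prodCongr b).trans (Submodule.prodEquivOfIsCompl W P hc))

theorem combine_apply {W P : Submodule F V} (hc : IsCompl W P) (a : W ≃ₗ[F] W) (b : P ≃ₗ[F] P)
    (x : W) (y : P) : combine hc a b ((x : V) + (y : V)) = (a x : V) + (b y : V) := by
  have h1 : (x : V) + (y : V) = Submodule.prodEquivOfIsCompl W P hc (x, y) :=
    (Submodule.coe_prodEquivOfIsCompl' W P hc (x, y)).symm
  rw [h1, combine, LinearEquiv.trans_apply, LinearEquiv.trans_apply, LinearEquiv.symm_apply_apply,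
    Submodule.coe_prodEquivOfIsCompl']
  rfl

theorem combine_left {W P : Submodule F V} (hc : IsCompl W P) (a : W ≃ₗ[F] W) (b : P ≃ₗ[F] P)
    (x : W) : combine hc a b (x : V) = (a x : V) := by
  have h := combine_apply hc a b x 0
  rw [map_zero, ZeroMemClass.coe_zero, add_zero, add_zero] at h
  exact h

theorem combine_right {W P : Submodule F V} (hc : IsCompl W P) (a : W ≃ₗ[F] W) (b : P ≃ₗ[F] P)
    (y : P) : combine hc a b (y : V) = (b y : V) := by
  have h := combine_apply hc a b 0 y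
  rw [map_zero, ZeroMemClass.coe_zero, zero_add, zero_add] at h
  exact h

theorem exists_add_of_isCompl {W P : Submodule F V} (hc : IsCompl W P) (v : V) :
    ∃ (x : W) (y : P), (x : V) + (y : V) = v := by
  have hv : v ∈ W ⊔ P := by rw [hc.sup_eq_top]; exact Submodule.mem_top
  obtain ⟨x, hx, y, hy, h⟩ := Submodule.mem_sup.1 hv
  exact ⟨⟨x, hx⟩, ⟨y, hy⟩, h⟩

theorem combine_isometry {W P : Submodule F V} (hc : IsCompl W P)
    (horth : ∀ w ∈ W, ∀ p ∈ P, B w p = 0 ∧ B p w = 0)
    (a : isoGrp (resForm B W)) (b : isoGrp (resForm B P)) :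
    combine hc a.1 b.1 ∈ isoGrp B := by
  intro u v
  obtain ⟨x, y, rfl⟩ := exists_add_of_isCompl hc u
  obtain ⟨x', y', rfl⟩ := exists_add_of_isCompl hc v
  have ha : B (a.1 x : V) (a.1 x' : V) = B (x : V) (x' : V) := a.2 x x'
  have hb : B (b.1 y : V) (b.1 y' : V) = B (y : V) (y' : V) := b.2 y y'
  rw [combine_apply, combine_apply]
  simp only [map_add, LinearMap.add_apply, (horth _ (a.1 x).2 _ (b.1 y').2).1,
    (horth _ (a.1 x').2 _ (b.1 y).2).2, (horth _ x.2 _ y'.2).1, (horth _ x'.2 _ y.2).2, ha, hb]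

theorem combine_stab {W P : Submodule F V} (hc : IsCompl W P)
    (horth : ∀ w ∈ W, ∀ p ∈ P, B w p = 0 ∧ B p w = 0)
    (a : isoGrp (resForm B W)) (b : isoGrp (resForm B P)) :
    (⟨combine hc a.1 b.1, combine_isometry hc horth a b⟩ : isoGrp B) ∈ stabSub B W := by
  intro v
  obtain ⟨x, y, rfl⟩ := exists_add_of_isCompl hc v
  show _ ↔ combine hc a.1 b.1 ((x : V) + (y : V)) ∈ W
  rw [combine_apply, Submodule.add_mem_iff_right W x.2, Submodule.add_mem_iff_right W (a.1 x).2]
  have key : ∀ z : P, (z : V) ∈ W ↔ z = 0 := fun z => by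
    refine ⟨fun h => ?_, fun h => by rw [h]; exact W.zero_mem⟩
    have hz : (z : V) ∈ W ⊓ P := ⟨h, z.2⟩
    rw [hc.inf_eq_bot, Submodule.mem_bot] at hz
    exact Subtype.ext hz
  rw [key, key, LinearEquiv.map_eq_zero_iff]

/-- The complement is stabilised too. -/
theorem stab_perp (W P : Submodule F V) (horth : ∀ w ∈ W, ∀ p ∈ P, B w p = 0)
    (hP : ∀ v, (∀ w ∈ W, B w v = 0) → v ∈ P) (g : stabSub B W) : g.1 ∈ stabSub B P := by
  intro v
  refine ⟨stab_mem_perp W P horth hP g v, fun h => ?_⟩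
  have h' := stab_mem_perp W P horth hP g⁻¹ _ h
  have e : ((g⁻¹ : stabSub B W).1 : V ≃ₗ[F] V) ((g.1 : V ≃ₗ[F] V) v) = v :=
    g.1.1.symm_apply_apply v
  rwa [e] at h'

/-- The two restrictions. -/
noncomputable def restrictPair (W P : Submodule F V) (horth : ∀ w ∈ W, ∀ p ∈ P, B w p = 0)
    (hP : ∀ v, (∀ w ∈ W, B w v = 0) → v ∈ P) :
    stabSub B W →* isoGrp (resForm B W) × isoGrp (resForm B P) where
  toFun g := (restrictW W g, restrictW P ⟨g.1, stab_perp W P horth hP g⟩)
  map_one' := Prod.ext (Subtype.ext (LinearEquiv.ext fun x => Subtype.ext rfl))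
    (Subtype.ext (LinearEquiv.ext fun x => Subtype.ext rfl))
  map_mul' g h := Prod.ext (Subtype.ext (LinearEquiv.ext fun x => Subtype.ext rfl))
    (Subtype.ext (LinearEquiv.ext fun x => Subtype.ext rfl))

/-- Stabiliser of an orthogonal summand. -/
theorem nonempty_stabProdEquiv (W P : Submodule F V) (hc : IsCompl W P)
    (horth : ∀ w ∈ W, ∀ p ∈ P, B w p = 0 ∧ B p w = 0)
    (hP : ∀ v, (∀ w ∈ W, B w v = 0) → v ∈ P) :
    Nonempty (stabSub B W ≃* isoGrp (resForm B W) × isoGrp (resForm B P)) := by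
  refine ⟨MulEquiv.ofBijective (restrictPair W P (fun w hw p hp => (horth w hw p hp).1) hP)
    ⟨fun g h hgh => ?_, fun ab => ⟨⟨⟨combine hc ab.1.1 ab.2.1, combine_isometry hc horth ab.1 ab.2⟩,
      combine_stab hc horth ab.1 ab.2⟩, ?_⟩⟩⟩
  · refine Subtype.ext (Subtype.ext (LinearEquiv.ext fun v => ?_))
    obtain ⟨x, y, rfl⟩ := exists_add_of_isCompl hc v
    have h1 : (g.1 : V ≃ₗ[F] V) (x : V) = (h.1 : V ≃ₗ[F] V) (x : V) :=
      congrArg Subtype.val (LinearEquiv.congr_fun (congrArg Subtype.val (Prod.ext_iff.1 hgh).1) x)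
    have h2 : (g.1 : V ≃ₗ[F] V) (y : V) = (h.1 : V ≃ₗ[F] V) (y : V) :=
      congrArg Subtype.val (LinearEquiv.congr_fun (congrArg Subtype.val (Prod.ext_iff.1 hgh).2) y)
    rw [map_add, map_add, h1, h2]
  · exact Prod.ext (Subtype.ext (LinearEquiv.ext fun x => Subtype.ext (combine_left hc _ _ x)))
      (Subtype.ext (LinearEquiv.ext fun x => Subtype.ext (combine_right hc _ _ x)))

end stab

end Cfsg.Agent.SympGeom
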