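/-
Hyperbolic bases adapted to a flag, stabilisers in `Sp_{2m}`.

* `FrameIn`, `card_frameIn` : number of frames `e, f` with `e i ∈ c i`
* `mem_stabilizing_iff` : a subspace is stabilised as soon as it is mapped into itself
* `spFrameInEquiv`, `card_flag_mapsTo` : the same count for symplectic matrices
-/
import Cfsg.Agent.Lib.GLOrder.Symplectic

set_option autoImplicit false
set_option linter.unusedSectionVars false
set_option linter.style.haveILetI false

namespace Cfsg.Agent.SympGeom

open Matrix Module Cfsg.Agent.GLOrder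

universe u v

section Frames

variable {F : Type u} [Field F] {V : Type v} [AddCommGroup V] [Module F V]

/-- Hyperbolic systems with `e i` in the prescribed subspaces. -/
abbrev FrameIn (B : LinearMap.BilinForm F V) (m : ℕ) (c : Fin m → Submodule F V) : Type v :=
  {t : Frame B m // ∀ i, t.1.1 i ∈ c i}

variable {B : LinearMap.BilinForm F V}

/-- Splitting off the first pair. -/
def frameInSuccEquiv (halt : ∀ x, B x x = 0) (m : ℕ) (c : Fin (m + 1) → Submodule F V) :
    FrameIn B (m + 1) c ≃ Σ p : {p : HypPair B // p.1.1 ∈ c 0},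
      FrameIn (resForm B (perp2 B p.1.1.1 p.1.1.2)) m
        (fun i => (c i.succ).comap (perp2 B p.1.1.1 p.1.1.2).subtype) where
  toFun t := ⟨⟨(frameSuccEquiv halt m t.1).1, t.2 0⟩, ⟨(frameSuccEquiv halt m t.1).2, fun i => t.2 i.succ⟩⟩
  invFun s := ⟨(frameSuccEquiv halt m).symm ⟨s.1.1, s.2.1⟩, fun i => by
    induction i using Fin.cases with
    | zero => exact s.1.2
    | succ i => exact s.2.2 i⟩
  left_inv t := Subtype.ext ((frameSuccEquiv halt m).symm_apply_apply t.1)
  right_inv s := by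
    obtain ⟨⟨⟨⟨e, f⟩, hef⟩, he⟩, ⟨⟨⟨es, fs⟩, h⟩, hin⟩⟩ := s
    rfl

theorem card_hypPair_mem [Finite F] [FiniteDimensional F V] (hnd : ∀ x, (∀ y, B x y = 0) → x = 0)
    {n : ℕ} (hn : finrank F V = n + 1) (W : Submodule F V) :
    Nat.card {p : HypPair B // p.1.1 ∈ W} =
      (Nat.card F ^ finrank F W - 1) * Nat.card F ^ n := by
  haveI : Finite V := Module.finite_of_finite F
  have e : {p : HypPair B // p.1.1 ∈ W} ≃ Σ e : {e : W // e ≠ 0}, {f : V // B (e.1 : V) f = 1} :=
    { toFun := fun p => ⟨⟨⟨p.1.1.1, p.2⟩, fun h0 => by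
          have h1 : p.1.1.1 = 0 := congrArg Subtype.val h0
          simpa [h1] using p.1.2⟩, ⟨p.1.1.2, p.1.2⟩⟩
      invFun := fun s => ⟨⟨((s.1.1 : V), s.2.1), s.2.2⟩, s.1.1.2⟩
      left_inv := fun _ => rfl
      right_inv := fun _ => rfl }
  rw [Nat.card_congr e, card_sigma_const (c := Nat.card F ^ n) fun x => ?_]
  · congr 1
    rw [← Module.natCard_eq_pow_finrank]
    have := Fintype.ofFinite W
    classical
    simp [Nat.card_eq_fintype_card, Fintype.card_subtype_compl]
  · obtain ⟨f₀, hf₀⟩ := exists_apply_eq_one hnd (e := ((x.1 : W) : V))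
      (fun h => x.2 (Subtype.ext h))
    let E : {f : V // B ((x.1 : W) : V) f = 1} ≃ LinearMap.ker (B ((x.1 : W) : V)) :=
      { toFun := fun f => ⟨f.1 - f₀, by simp [f.2, hf₀]⟩
        invFun := fun k => ⟨k.1 + f₀, by simp [hf₀, LinearMap.mem_ker.1 k.2]⟩
        left_inv := fun f => by simp
        right_inv := fun k => by simp }
    rw [Nat.card_congr E, Module.natCard_eq_pow_finrank (K := F)]
    congr 1
    have hs : Function.Surjective (B ((x.1 : W) : V)) := fun c => ⟨c • f₀, by simp [hf₀]⟩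
    have := LinearMap.finrank_range_add_finrank_ker (B ((x.1 : W) : V))
    rw [LinearMap.range_eq_top.2 hs, finrank_top, Module.finrank_self] at this
    omega

/-- An isotropic subspace through `e` loses one dimension in the complement of the pair. -/
theorem finrank_comap_perp2 [FiniteDimensional F V] (halt : ∀ x, B x x = 0) {e f : V}
    (hef : B e f = 1) {W : Submodule F V} (hW : ∀ u ∈ W, ∀ v ∈ W, B u v = 0) (he : e ∈ W) :
    finrank F (W.comap (perp2 B e f).subtype) + 1 = finrank F W := by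
  let φ : W →ₗ[F] F := (B f).comp W.subtype
  have hfe : B f e = -1 := by rw [alt_swap halt e f, hef]
  have hs : Function.Surjective φ := fun c => ⟨(-c) • ⟨e, he⟩, by simp [φ, hfe]⟩
  have h := LinearMap.finrank_range_add_finrank_ker φ
  rw [LinearMap.range_eq_top.2 hs, finrank_top, Module.finrank_self] at h
  let E : (W.comap (perp2 B e f).subtype) ≃ₗ[F] LinearMap.ker φ :=
    { toFun := fun x => ⟨⟨((x : perp2 B e f) : V), x.2⟩, LinearMap.mem_ker.2 (mem_perp2.1 x.1.2).2⟩
      invFun := fun y => ⟨⟨((y : W) : V), mem_perp2.2 ⟨hW e he _ y.1.2, LinearMap.mem_ker.1 y.2⟩⟩, y.1.2⟩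
      map_add' := fun _ _ => rfl
      map_smul' := fun _ _ => rfl
      left_inv := fun _ => rfl
      right_inv := fun _ => rfl }
  rw [E.finrank_eq]
  omega

/-- Frames adapted to a monotone family of subspaces, each isotropic or everything;
`d i` is the dimension left for `e i`. -/
theorem card_frameIn {F : Type u} [Field F] [Finite F] :
    ∀ (m : ℕ) {V : Type v} [AddCommGroup V] [Module F V] [FiniteDimensional F V]
      (B : LinearMap.BilinForm F V), (∀ x, B x x = 0) → (∀ x, (∀ y, B x y = 0) → x = 0) →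
      finrank F V = 2 * m → ∀ (c : Fin m → Submodule F V) (d : Fin m → ℕ), Monotone c →
      (∀ i, (c i = ⊤ ∧ d i = 2 * (m - (i : ℕ))) ∨
        ((∀ u ∈ c i, ∀ v ∈ c i, B u v = 0) ∧ finrank F (c i) = d i + (i : ℕ))) →
      Nat.card (FrameIn B m c) =
        ∏ i : Fin m, ((Nat.card F ^ d i - 1) * Nat.card F ^ (2 * (m - (i : ℕ) - 1) + 1)) := by
  intro m
  induction m with
  | zero =>
    intro V _ _ _ B _ _ _ c d _ _
    haveI : Subsingleton (FrameIn B 0 c) :=
      ⟨fun a b => Subtype.ext (Subtype.ext (Subsingleton.elim _ _))⟩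
    haveI : Nonempty (FrameIn B 0 c) := ⟨⟨⟨(Fin.elim0, Fin.elim0), fun i => i.elim0,
      fun i => i.elim0, fun i => i.elim0⟩, fun i => i.elim0⟩⟩
    simp [Nat.card_unique]
  | succ m ih =>
    intro V _ _ _ B halt hnd hr c d hmono hc
    haveI : Finite V := Module.finite_of_finite F
    have hd0 : finrank F (c 0) = d 0 := by
      rcases hc 0 with ⟨ht, hd⟩ | ⟨-, hd⟩
      · rw [ht, finrank_top, hr, hd]; simp
      · simpa using hd
    have hp := card_hypPair_mem hnd (n := 2 * m + 1) (by omega) (c 0)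
    rw [Nat.card_congr (frameInSuccEquiv halt m c), card_sigma_const (c :=
      ∏ i : Fin m, ((Nat.card F ^ d i.succ - 1) * Nat.card F ^ (2 * (m - (i : ℕ) - 1) + 1)))
      fun p => ?_, hp, hd0, Fin.prod_univ_succ]
    · congr 1
      refine Finset.prod_congr rfl fun i _ => ?_
      rw [Fin.val_succ, show m + 1 - ((i : ℕ) + 1) - 1 = m - (i : ℕ) - 1 by omega]
    · have := finrank_perp2 halt p.1.2
      refine ih (resForm B (perp2 B p.1.1.1 p.1.1.2)) (fun x => halt x)
        (fun x hx => resForm_perp2_nondeg halt hnd p.1.2 x hx) (by omega)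
        _ _ (fun i j hij => Submodule.comap_mono (hmono (Fin.succ_le_succ_iff.2 hij))) fun i => ?_
      rcases hc i.succ with ⟨ht, hd⟩ | ⟨hi, hd⟩
      · refine Or.inl ⟨by rw [ht, Submodule.comap_top], ?_⟩
        rw [hd, Fin.val_succ]
        congr 1
        omega
      · refine Or.inr ⟨fun u hu v hv => hi _ hu _ hv, ?_⟩
        have he := hmono (Fin.zero_le i.succ) p.2
        have h := finrank_comap_perp2 halt p.1.2 hi he
        rw [Fin.val_succ] at hd
        omega

end Frames

section Sp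

variable {F : Type u} [Field F] {m : ℕ}

theorem sympB_isotropic_iff (W : Submodule F (Fin m ⊕ Fin m → F)) :
    (∀ u ∈ W, ∀ v ∈ W, Cfsg.sympForm m F u v = 0) ↔ ∀ u ∈ W, ∀ v ∈ W, sympB m F u v = 0 := by
  simp only [sympB_eq_neg_sympForm, neg_eq_zero]

theorem mulVec_injective (g : Matrix.symplecticGroup (Fin m) F) :
    Function.Injective (g.1 *ᵥ ·) :=
  Matrix.mulVec_injective_iff_isUnit.2
    ((Matrix.isUnit_iff_isUnit_det _).2 (SymplecticGroup.symplectic_det g.2))

/-- Mapping a subspace into itself suffices to stabilise it. -/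
theorem mem_stabilizing_iff (W : Submodule F (Fin m ⊕ Fin m → F))
    (g : Matrix.symplecticGroup (Fin m) F) :
    g ∈ Cfsg.stabilizing (Cfsg.spToMat m F) (W : Set (Fin m ⊕ Fin m → F)) ↔
      ∀ v ∈ W, g.1 *ᵥ v ∈ W := by
  refine ⟨fun h v hv => (h v).1 hv, fun h v => ⟨fun hv => h v hv, fun hv => ?_⟩⟩
  let L : (Fin m ⊕ Fin m → F) →ₗ[F] Fin m ⊕ Fin m → F := g.1.mulVecLin
  have hle : W.map L ≤ W := by
    rintro _ ⟨w, hw, rfl⟩
    exact h w hw
  have heq : W.map L = W := Submodule.eq_of_le_of_finrank_eq hle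
    (Submodule.equivMapOfInjective L (mulVec_injective g) W).finrank_eq.symm
  have hv' : g.1 *ᵥ v ∈ W.map L := by rw [heq]; exact hv
  obtain ⟨w, hw, hwv⟩ := hv'
  rw [← mulVec_injective g hwv]
  exact hw

/-- Symplectic matrices whose left columns lie in the given subspaces. -/
noncomputable def spFrameInEquiv (c : Fin m → Submodule F (Fin m ⊕ Fin m → F)) :
    {g : Matrix.symplecticGroup (Fin m) F // ∀ i, g.1 *ᵥ Pi.single (Sum.inl i) 1 ∈ c i} ≃
      FrameIn (sympB m F) m c :=
  (spFrameEquiv m F).subtypeEquiv fun g => forall_congr' fun i => by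
    rw [Matrix.mulVec_single_one]; rfl

end Sp

end Cfsg.Agent.SympGeom
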