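/-
Symmetric forms over finite fields of odd order: totally isotropic subspaces of half dimension.

* `det_change` : Gram determinants in two bases differ by a non-zero square
* `hasHalf_iff` : such a subspace exists iff `(-1) ^ n * det` is a square (`dim = 2 n`)
-/
import Cfsg.Agent.Lib.QuadClass.Odd

set_option autoImplicit false

namespace Cfsg.Agent.SympGeom

open Module Matrix

variable {F V : Type*} [Field F] [AddCommGroup V] [Module F V]

theorem det_change {ι κ : Type*} [Fintype ι] [DecidableEq ι] [Fintype κ] [DecidableEq κ]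
    (B : LinearMap.BilinForm F V) (b : Basis ι F V) (c : Basis κ F V) :
    ∃ s : F, s ≠ 0 ∧
      (LinearMap.BilinForm.toMatrix c B).det = s ^ 2 * (LinearMap.BilinForm.toMatrix b B).det := by
  classical
  let e : κ ≃ ι := c.indexEquiv b
  let c' := c.reindex e
  have hc : LinearMap.BilinForm.toMatrix c' B =
      (LinearMap.BilinForm.toMatrix c B).submatrix e.symm e.symm := by
    ext i j
    simp [c', LinearMap.BilinForm.toMatrix_apply]
  have h := LinearMap.BilinForm.toMatrix_mul_basis_toMatrix b c' B
  have hd := congrArg Matrix.det h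
  rw [Matrix.det_mul, Matrix.det_mul, Matrix.det_transpose, hc, Matrix.det_submatrix_equiv_self] at hd
  refine ⟨(b.toMatrix c').det, fun h0 => ?_, by rw [← hd]; ring⟩
  have h1 := congrArg Matrix.det (b.toMatrix_mul_toMatrix_flip c')
  rw [Matrix.det_mul, h0, zero_mul, Matrix.det_one] at h1
  exact zero_ne_one h1

theorem isotropic_of_self {h2 : (2 : F) ≠ 0} (B : LinearMap.BilinForm F V) (hS : B.IsSymm)
    {X : Submodule F V} (h : ∀ x ∈ X, B x x = 0) : ∀ x ∈ X, ∀ y ∈ X, B x y = 0 := by
  intro x hx y hy
  have h3 := h _ (X.add_mem hx hy)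
  simp only [map_add, LinearMap.add_apply, h x hx, h y hy, zero_add, add_zero] at h3
  have h4 : B y x = B x y := hS.eq y x
  rw [h4, ← two_mul] at h3
  exact (mul_eq_zero.1 h3).resolve_left h2

/-- A half-dimensional totally isotropic subspace, read off from the Gram determinant. -/
theorem hasHalf_iff [Fintype F] [FiniteDimensional F V] (h2 : (2 : F) ≠ 0)
    (B : LinearMap.BilinForm F V) (hS : B.IsSymm) (hB : B.Nondegenerate) {n : ℕ}
    (hn : finrank F V = 2 * n) {ι : Type*} [Fintype ι] [DecidableEq ι] (b : Basis ι F V) :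
    (∃ X : Submodule F V, finrank F X = n ∧ ∀ x ∈ X, ∀ y ∈ X, B x y = 0) ↔
      IsSquare ((-1 : F) ^ n * (LinearMap.BilinForm.toMatrix b B).det) := by
  classical
  constructor
  · rintro ⟨X, hX, hiso⟩
    obtain ⟨X', hc⟩ := Submodule.exists_isCompl X
    have hX' : finrank F X' = n := by
      have h := Submodule.finrank_add_eq_of_isCompl hc
      omega
    let a : Basis (Fin n ⊕ Fin n) F V :=
      ((Module.finBasisOfFinrankEq F X hX).prod (Module.finBasisOfFinrankEq F X' hX')).map
        (Submodule.prodEquivOfIsCompl X X' hc)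
    have haX : ∀ i, a (.inl i) ∈ X := fun i => by simp [a]
    set M := LinearMap.BilinForm.toMatrix a B with hM
    have h11 : M.toBlocks₁₁ = 0 := by
      ext i j
      simp only [Matrix.toBlocks₁₁, Matrix.of_apply, hM, LinearMap.BilinForm.toMatrix_apply]
      exact hiso _ (haX i) _ (haX j)
    have h21 : M.toBlocks₂₁ = M.toBlocks₁₂.transpose := by
      ext i j
      simp only [Matrix.toBlocks₂₁, Matrix.toBlocks₁₂, Matrix.of_apply, Matrix.transpose_apply, hM,
        LinearMap.BilinForm.toMatrix_apply]
      exact hS.eq _ _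
    set A := M.toBlocks₁₂
    set C := M.toBlocks₂₂
    have hblocks : M = Matrix.fromBlocks 0 A A.transpose C := by
      rw [← h11, ← h21, Matrix.fromBlocks_toBlocks]
    let S₁ : Matrix (Fin n ⊕ Fin n) (Fin n ⊕ Fin n) F := Matrix.fromBlocks 1 1 0 1
    let S₂ : Matrix (Fin n ⊕ Fin n) (Fin n ⊕ Fin n) F := Matrix.fromBlocks 1 0 (-1) 1
    have hS₁ : S₁.det = 1 := by rw [Matrix.det_fromBlocks_zero₂₁]; simp
    have hS₂ : S₂.det = 1 := by rw [Matrix.det_fromBlocks_zero₁₂]; simp
    have hfact : M * (S₁ * S₂ * S₁) = Matrix.fromBlocks (-A) 0 (-C) A.transpose := by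
      rw [hblocks]
      simp [S₁, S₂, Matrix.fromBlocks_multiply]
    have hdet := congrArg Matrix.det hfact
    rw [Matrix.det_mul, Matrix.det_mul, Matrix.det_mul, hS₁, hS₂, Matrix.det_fromBlocks_zero₁₂,
      Matrix.det_neg, Matrix.det_transpose, Fintype.card_fin, mul_one, mul_one, mul_one] at hdet
    obtain ⟨s, -, hs⟩ := det_change B a b
    refine ⟨s * A.det, ?_⟩
    rw [hs, ← hM, hdet]
    have h1 : ((-1 : F) ^ n) * (-1) ^ n = 1 := by rw [← mul_pow]; simp
    linear_combination (s ^ 2 * A.det * A.det) * h1
  · intro hsq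
    haveI : Invertible (2 : F) := invertibleOfNonzero h2
    obtain ⟨c₀, hc₀⟩ := LinearMap.BilinForm.exists_orthogonal_basis (B := B) ⟨fun x y => hS.eq x y⟩
    let c : Basis (Fin (2 * n)) F V := c₀.reindex (finCongr hn)
    let w : Fin (2 * n) → F := fun i => B (c i) (c i)
    have horth : ∀ i j, i ≠ j → B (c i) (c j) = 0 := fun i j h => by
      simp only [c, Basis.reindex_apply]
      exact hc₀ (fun e => h ((finCongr hn).symm.injective e))
    have hM : LinearMap.BilinForm.toMatrix c B = Matrix.diagonal w := by
      ext i j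
      rw [LinearMap.BilinForm.toMatrix_apply, Matrix.diagonal_apply]
      split_ifs with h
      · rw [h]
      · exact horth i j h
    have hw : ∀ i, w i ≠ 0 := by
      have h := (LinearMap.BilinForm.nondegenerate_iff_det_ne_zero c).1 hB
      rw [hM, Matrix.det_diagonal] at h
      exact fun i => Finset.prod_ne_zero_iff.1 h i (Finset.mem_univ i)
    obtain ⟨s, hs, hdet⟩ := det_change B b c
    rw [hM, Matrix.det_diagonal] at hdet
    obtain ⟨r, hr⟩ := hsq
    let e : Fin (2 * n) ≃ Fin n ⊕ Fin n := (finCongr (two_mul n)).trans finSumFinEquiv.symm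
    let w' : Fin (2 * n) → F := fun i => Sum.elim (fun _ => (1 : F)) (fun _ => -1) (e i)
    have hw' : ∏ i, w' i = (-1) ^ n := by
      rw [show ∏ i, w' i = ∏ i, Sum.elim (fun _ : Fin n => (1 : F)) (fun _ : Fin n => -1) i from
        e.prod_comp (fun i => Sum.elim (fun _ : Fin n => (1 : F)) (fun _ : Fin n => -1) i),
        Fintype.prod_sum_type]
      simp
    have hprod : ∏ i, w i = (∏ i, w' i) * (s * r) ^ 2 := by
      rw [hw', hdet]
      have h1 : ((-1 : F) ^ n) * (-1) ^ n = 1 := by rw [← mul_pow]; simp
      linear_combination ((-1 : F) ^ n * s ^ 2) * hr - (s ^ 2 * (LinearMap.BilinForm.toMatrix b B).det) * h1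
    have hsr : s * r ≠ 0 := by
      intro h
      rw [h] at hprod
      simp [Finset.prod_ne_zero_iff.2 fun i _ => hw i] at hprod
    have hequiv : (QuadClass.diagForm w).Equivalent (QuadClass.diagForm w') := by
      refine (QuadClass.exists_canonical h2 _ w hw).trans ?_
      rw [hprod]
      exact (QuadClass.canon_equivalent hsr).trans (QuadClass.exists_canonical h2 _ w' (fun i => by
        simp only [w']
        rcases e i with j | j <;> simp)).symm
    obtain ⟨Φ⟩ := hequiv
    let L : (Fin n → F) →ₗ[F] V :=
      c.equivFun.symm.toLinearMap ∘ₗ Φ.toLinearEquiv.symm.toLinearMap ∘ₗ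
        { toFun := fun a i => Sum.elim a a (e i)
          map_add' := fun a a' => by funext i; rcases hi : e i with j | j <;> simp [hi]
          map_smul' := fun t a => by funext i; rcases hi : e i with j | j <;> simp [hi] }
    have hL : Function.Injective L := by
      intro a a' h
      have h' : (fun i => Sum.elim a a (e i)) = fun i => Sum.elim a' a' (e i) :=
        Φ.toLinearEquiv.symm.injective (c.equivFun.symm.injective h)
      funext j
      simpa using congrFun h' (e.symm (Sum.inl j))
    have hBc : ∀ v : Fin (2 * n) → F, B (c.equivFun.symm v) (c.equivFun.symm v) = QuadClass.diagForm w v := by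
      intro v
      rw [QuadClass.diagForm_apply, Basis.equivFun_symm_apply]
      simp only [map_sum, LinearMap.sum_apply, map_smul, LinearMap.smul_apply, smul_eq_mul]
      refine Finset.sum_congr rfl fun i _ => ?_
      rw [Finset.sum_eq_single i]
      · simp only [w]; ring
      · intro j _ hj; rw [horth j i hj]; ring
      · simp
    refine ⟨LinearMap.range L, by rw [LinearMap.finrank_range_of_inj hL, Module.finrank_fin_fun], ?_⟩
    refine isotropic_of_self (h2 := h2) B hS ?_
    rintro _ ⟨a, rfl⟩
    let u : Fin (2 * n) → F := fun i => Sum.elim a a (e i)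
    have hu : QuadClass.diagForm w (Φ.toLinearEquiv.symm u) = QuadClass.diagForm w' u := by
      conv_rhs => rw [← Φ.toLinearEquiv.apply_symm_apply u]
      exact (Φ.map_app _).symm
    show B (c.equivFun.symm (Φ.toLinearEquiv.symm u)) (c.equivFun.symm (Φ.toLinearEquiv.symm u)) = 0
    rw [hBc, hu, QuadClass.diagForm_apply]
    rw [show ∑ i, w' i * (u i * u i) = ∑ i : Fin n ⊕ Fin n,
      Sum.elim (fun _ => (1 : F)) (fun _ => -1) i * (Sum.elim a a i * Sum.elim a a i) from
        e.sum_comp (fun i => Sum.elim (fun _ => (1 : F)) (fun _ => -1) i * (Sum.elim a a i * Sum.elim a a i)),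
      Fintype.sum_sum_type]
    simp

end Cfsg.Agent.SympGeom
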