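/-
Tensor products of bilinear forms in bases.

* `toMatrix_tmul`, `tmul_apply` : the matrix of `B₁ ⊗ B₂` is the Kronecker product
* `tmul_nondegenerate`, `tmul_apply_symm`
-/
import Cfsg.Agent.EqLemmas

set_option autoImplicit false

namespace Cfsg.Agent.SympGeom

open Module TensorProduct
open scoped Kronecker

variable {F U W : Type*} [Field F] [AddCommGroup U] [Module F U] [AddCommGroup W] [Module F W]

theorem tmul_apply (B₁ : LinearMap.BilinForm F U) (B₂ : LinearMap.BilinForm F W) (u u' : U) (w w' : W) :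
    B₁.tmul B₂ (u ⊗ₜ w) (u' ⊗ₜ w') = B₁ u u' * B₂ w w' := by
  show LinearMap.BilinForm.tensorDistrib F F (B₁ ⊗ₜ[F] B₂) (u ⊗ₜ w) (u' ⊗ₜ w') = _
  rw [LinearMap.BilinForm.tensorDistrib_tmul, smul_eq_mul, mul_comm]

theorem toMatrix_tmul {ι κ : Type*} [Fintype ι] [DecidableEq ι] [Fintype κ] [DecidableEq κ]
    (B₁ : LinearMap.BilinForm F U) (B₂ : LinearMap.BilinForm F W) (b₁ : Basis ι F U) (b₂ : Basis κ F W) :
    LinearMap.BilinForm.toMatrix (b₁.tensorProduct b₂) (B₁.tmul B₂) =
      LinearMap.BilinForm.toMatrix b₁ B₁ ⊗ₖ LinearMap.BilinForm.toMatrix b₂ B₂ := by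
  ext ⟨i, j⟩ ⟨i', j'⟩
  rw [Matrix.kroneckerMap_apply]
  rw [LinearMap.BilinForm.toMatrix_apply, LinearMap.BilinForm.toMatrix_apply, LinearMap.BilinForm.toMatrix_apply, Module.Basis.tensorProduct_apply, Module.Basis.tensorProduct_apply, tmul_apply]

theorem tmul_nondegenerate [FiniteDimensional F U] [FiniteDimensional F W]
    {B₁ : LinearMap.BilinForm F U} {B₂ : LinearMap.BilinForm F W} (h₁ : B₁.Nondegenerate)
    (h₂ : B₂.Nondegenerate) : (B₁.tmul B₂).Nondegenerate := by
  classical
  let b₁ := Module.finBasis F U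
  let b₂ := Module.finBasis F W
  show LinearMap.BilinForm.Nondegenerate (B₁.tmul B₂)
  refine (LinearMap.BilinForm.nondegenerate_iff_det_ne_zero (b₁.tensorProduct b₂)).2 ?_
  rw [toMatrix_tmul, Matrix.det_kronecker]
  exact mul_ne_zero (pow_ne_zero _ ((LinearMap.BilinForm.nondegenerate_iff_det_ne_zero b₁).1 h₁))
    (pow_ne_zero _ ((LinearMap.BilinForm.nondegenerate_iff_det_ne_zero b₂).1 h₂))

/-- Two forms of the same parity give a symmetric product. -/
theorem tmul_apply_symm {s : F} (hs : s * s = 1) {B₁ : LinearMap.BilinForm F U}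
    {B₂ : LinearMap.BilinForm F W} (h₁ : ∀ u u', B₁ u u' = s * B₁ u' u)
    (h₂ : ∀ w w', B₂ w w' = s * B₂ w' w) : (B₁.tmul B₂).IsSymm := by
  refine ⟨fun x y => ?_⟩
  induction x using TensorProduct.induction_on with
  | zero => simp
  | tmul u w =>
    induction y using TensorProduct.induction_on with
    | zero => simp
    | tmul u' w' =>
      rw [RingHom.id_apply, tmul_apply, tmul_apply, h₁ u u', h₂ w w']
      linear_combination (B₁ u' u * B₂ w' w) * hs
    | add a b ha hb =>
      simp only [RingHom.id_apply, map_add, LinearMap.add_apply] at ha hb ⊢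
      rw [ha, hb]
  | add a b ha hb =>
    simp only [RingHom.id_apply, map_add, LinearMap.add_apply] at ha hb ⊢
    rw [ha, hb]

end Cfsg.Agent.SympGeom
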